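-- helper64: package N0 of S2861 (for helper48): the centre `E` of a Sylow 2-subgroup of `Sz(q)` is
-- the only nontrivial subgroup of exponent 2 normalized by `N(E)`.
import Mathlib
import Cfsg.Prelude.Def_LocalStructure
import Cfsg.Agent.Lib.Helper37.SzSol4
import Cfsg.Agent.Lib.Helper37.SzLieC
import Cfsg.Agent.Lib.Helper48.FrakL.DefsN

set_option autoImplicit false

namespace Cfsg.Agent.Lib.Helper64.FrakL

open Cfsg.Agent.Lib.Helper37

/-- `SzNormal` on the ovoid model of the Suzuki group. (The identification of `E` with the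
involutions fixing an ovoid point follows helper45's `szFactsFor_sz`.) -/
theorem szNormal_model {F : Type} [Field F] [Fintype F] {m : ℕ} (hm : 1 ≤ m)
    (hF : Fintype.card F = 2 ^ (2 * m + 1)) (E : Subgroup ↥(Cfsg.Sz F m))
    (hinv : ∀ e ∈ E, e * e = 1) (hcard : Nat.card ↥E = 2 ^ (2 * m + 1))
    (V : Subgroup ↥(Cfsg.Sz F m)) (hV : V ≠ ⊥) (hV2 : ∀ v ∈ V, v * v = 1)
    (hN : ∀ n : ↥(Cfsg.Sz F m), (∀ e ∈ E, n * e * n⁻¹ ∈ E) → ∀ v ∈ V, n * v * n⁻¹ ∈ V) :
    V = E := by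
  have h := szData_of_card hm hF
  -- `E` is nontrivial
  obtain ⟨e0, he0, he01⟩ : ∃ e0 ∈ E, e0 ≠ 1 := by
    by_contra hcon
    push Not at hcon
    have hbot : E = ⊥ := (Subgroup.eq_bot_iff_forall E).mpr hcon
    rw [hbot, Subgroup.card_bot] at hcard
    have h2 : 2 ^ 1 ≤ 2 ^ (2 * m + 1) := Nat.pow_le_pow_right (by norm_num) (by omega)
    omega
  -- `E` is abelian
  have hcomm : ∀ a ∈ E, ∀ b ∈ E, a * b = b * a := by
    intro a ha b hb
    have e1 : (a * b)⁻¹ = a * b := inv_eq_of_mul_eq_one_right (hinv _ (E.mul_mem ha hb))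
    have e2 : a⁻¹ = a := inv_eq_of_mul_eq_one_right (hinv a ha)
    have e3 : b⁻¹ = b := inv_eq_of_mul_eq_one_right (hinv b hb)
    calc a * b = (a * b)⁻¹ := e1.symm
      _ = b⁻¹ * a⁻¹ := mul_inv_rev a b
      _ = b * a := by rw [e2, e3]
  -- the fixed point of `E`
  obtain ⟨p, hp⟩ := sz_involution_fixes hF e0 (hinv e0 he0)
  obtain ⟨k, hk⟩ := sz_exists_smul_inf h p
  have hEfix : ∀ e ∈ E, e • p = p := by
    intro e he
    have h1 : e0 • (e • p) = e • p := by
      rw [← mul_smul, hcomm e0 he0 e he, mul_smul, hp]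
    exact sz_involution_fix_unique hm hF e0 (hinv e0 he0) he01 _ _ h1 hp
  have hform : ∀ x : ↥(Cfsg.Sz F m), x * x = 1 → x • p = p →
      ∃ c : F, x = k * szTm h 0 c * k⁻¹ := by
    intro x hx hxp
    have ht' : (k⁻¹ * x * k) * (k⁻¹ * x * k) = 1 := by
      have e : (k⁻¹ * x * k) * (k⁻¹ * x * k) = k⁻¹ * (x * x) * k := by group
      rw [e, hx]
      group
    have hinf : (k⁻¹ * x * k) • oInf F m = oInf F m := by
      rw [mul_smul, mul_smul, hk, hxp, ← hk, inv_smul_smul]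
    obtain ⟨b, hb⟩ := sz_involution_inf h _ ht' hinf
    refine ⟨b, ?_⟩
    rw [← hb]
    group
  -- by cardinality `E` is the set of all these elements
  have hEall : ∀ c : F, k * szTm h 0 c * k⁻¹ ∈ E := by
    obtain ⟨f, hf⟩ : ∃ f : F → ↥(Cfsg.Sz F m), f = fun c => k * szTm h 0 c * k⁻¹ := ⟨_, rfl⟩
    have hfc : ∀ c, f c = k * szTm h 0 c * k⁻¹ := fun c => by rw [hf]
    have hfinj : Function.Injective f := by
      intro c c' hcc
      rw [hfc, hfc] at hcc
      exact (szTm_inj h (mul_left_cancel (mul_right_cancel hcc))).2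
    have hsub : (E : Set ↥(Cfsg.Sz F m)) ⊆ Set.range f := by
      intro e he
      obtain ⟨c, hc⟩ := hform e (hinv e he) (hEfix e he)
      exact ⟨c, by rw [hfc, hc]⟩
    have hcardR : (Set.range f).ncard = Fintype.card F := by
      rw [← Nat.card_coe_set_eq, Nat.card_range_of_injective hfinj, Nat.card_eq_fintype_card]
    have hEcard : (E : Set ↥(Cfsg.Sz F m)).ncard = 2 ^ (2 * m + 1) := by
      rw [← Nat.card_coe_set_eq]
      exact hcard
    have heq := Set.eq_of_subset_of_ncard_le hsub (by rw [hcardR, hEcard, hF]) (Set.toFinite _)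
    intro c
    have h1 : f c ∈ (E : Set ↥(Cfsg.Sz F m)) := by
      rw [heq]
      exact ⟨c, rfl⟩
    rw [hfc] at h1
    exact h1
  have hL1 : ∀ x : ↥(Cfsg.Sz F m), x * x = 1 → x • p = p → x ∈ E := by
    intro x hx hxp
    obtain ⟨c, rfl⟩ := hform x hx hxp
    exact hEall c
  have hL3 : ∀ e ∈ E, e ≠ 1 → ∀ p' : ↥(Cfsg.suzukiOvoid F m), e • p' = p' → p' = p :=
    fun e he he1 p' hp' => sz_involution_fix_unique hm hF e (hinv e he) he1 p' p hp' (hEfix e he)
  have hconjsq : ∀ g x : ↥(Cfsg.Sz F m), x * x = 1 → (g * x * g⁻¹) * (g * x * g⁻¹) = 1 := by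
    intro g x hx
    have e : (g * x * g⁻¹) * (g * x * g⁻¹) = g * (x * x) * g⁻¹ := by group
    rw [e, hx]
    group
  have hconjne : ∀ g x : ↥(Cfsg.Sz F m), x ≠ 1 → g * x * g⁻¹ ≠ 1 := by
    intro g x hx hc
    apply hx
    have e : x = g⁻¹ * (g * x * g⁻¹) * g := by group
    rw [e, hc]
    group
  have hNorm : ∀ g : ↥(Cfsg.Sz F m), g • p = p → ∀ e ∈ E, g * e * g⁻¹ ∈ E := by
    intro g hgp e he
    apply hL1 _ (hconjsq g e (hinv e he))
    have h1 : g⁻¹ • p = p := inv_smul_eq_iff.mpr hgp.symm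
    rw [mul_smul, mul_smul, h1, hEfix e he, hgp]

  -- `V` is abelian and nontrivial
  have hVcomm : ∀ a ∈ V, ∀ b ∈ V, a * b = b * a := by
    intro a ha b hb
    have e1 : (a * b)⁻¹ = a * b := inv_eq_of_mul_eq_one_right (hV2 _ (V.mul_mem ha hb))
    have e2 : a⁻¹ = a := inv_eq_of_mul_eq_one_right (hV2 a ha)
    have e3 : b⁻¹ = b := inv_eq_of_mul_eq_one_right (hV2 b hb)
    calc a * b = (a * b)⁻¹ := e1.symm
      _ = b⁻¹ * a⁻¹ := mul_inv_rev a b
      _ = b * a := by rw [e2, e3]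
  obtain ⟨v0, hv0, hv01⟩ : ∃ v0 ∈ V, v0 ≠ 1 := by
    by_contra hcon
    push Not at hcon
    exact hV ((Subgroup.eq_bot_iff_forall V).mpr hcon)
  -- all of `V` fixes the fixed point of `v0`
  obtain ⟨p', hp'⟩ := sz_involution_fixes hF v0 (hV2 v0 hv0)
  have hVfix : ∀ v ∈ V, v • p' = p' := by
    intro v hv
    have h1 : v0 • (v • p') = v • p' := by
      rw [← mul_smul, hVcomm v0 hv0 v hv, mul_smul, hp']
    exact sz_involution_fix_unique hm hF v0 (hV2 v0 hv0) hv01 _ _ h1 hp'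
  -- `e0` normalizes `E`, so it fixes that point, which is therefore the fixed point of `E`
  have he0N : ∀ e ∈ E, e0 * e * e0⁻¹ ∈ E := fun e he =>
    E.mul_mem (E.mul_mem he0 he) (E.inv_mem he0)
  have hw : e0 * v0 * e0⁻¹ ∈ V := hN e0 he0N v0 hv0
  have hw1 : e0 * v0 * e0⁻¹ ≠ 1 := hconjne e0 v0 hv01
  have hwfix : (e0 * v0 * e0⁻¹) • (e0 • p') = e0 • p' := by
    rw [mul_smul, mul_smul, inv_smul_smul, hp']
  have h2 : e0 • p' = p' :=
    sz_involution_fix_unique hm hF _ (hV2 _ hw) hw1 _ _ hwfix (hVfix _ hw)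
  have hpp : p' = p := hL3 e0 he0 he01 p' h2
  have hVE : V ≤ E := by
    intro v hv
    apply hL1 v (hV2 v hv)
    rw [← hpp]
    exact hVfix v hv
  apply le_antisymm hVE
  intro e he
  by_cases he1 : e = 1
  · rw [he1]
    exact V.one_mem
  · obtain ⟨g1, hg1⟩ := invol_conj_z hF h v0 (hV2 v0 hv0) hv01
    obtain ⟨g2, hg2⟩ := invol_conj_z hF h e (hinv e he) he1
    obtain ⟨n, hn⟩ : ∃ n, n = g2 * g1⁻¹ := ⟨_, rfl⟩
    have hconj : n * v0 * n⁻¹ = e := by
      rw [hn, hg2, hg1]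
      group
    have hfix : e • (n • p) = n • p := by
      rw [← hconj, mul_smul, mul_smul, inv_smul_smul, hEfix v0 (hVE hv0)]
    have hnp : n • p = p := hL3 e he he1 _ hfix
    rw [← hconj]
    exact hN n (hNorm n hnp) v0 hv0

/-- Package N0 of S2861. -/
theorem szNormal : Cfsg.Agent.Lib.Helper48.FrakL.SzNormal := by
  intro F _ _ m hm hF E hinv hcard V hV hV2 hN
  have h := szData_of_card hm hF
  obtain ⟨φ, hφ⟩ : ∃ φ : ↥(Cfsg.Sz F m) ≃* ↥(Cfsg.Lie.Sz F (2 ^ (m + 1))), φ = szLieEquiv h :=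
    ⟨_, rfl⟩
  have hinv' : ∀ e ∈ E.comap φ.toMonoidHom, e * e = 1 := by
    intro e he
    have h1 := hinv (φ e) he
    apply φ.injective
    rw [map_mul, map_one]
    exact h1
  have hcard' : Nat.card ↥(E.comap φ.toMonoidHom) = 2 ^ (2 * m + 1) := by
    rw [← hcard, Subgroup.comap_equiv_eq_map_symm']
    exact Subgroup.card_map_of_injective φ.symm.injective
  have hV' : V.comap φ.toMonoidHom ≠ ⊥ := by
    intro hbot
    apply hV
    rw [Subgroup.eq_bot_iff_forall]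
    intro v hv
    have h1 : φ.symm v ∈ V.comap φ.toMonoidHom := by
      show φ (φ.symm v) ∈ V
      rw [MulEquiv.apply_symm_apply]
      exact hv
    rw [hbot, Subgroup.mem_bot] at h1
    have h2 := congrArg φ h1
    rwa [MulEquiv.apply_symm_apply, map_one] at h2
  have hV2' : ∀ v ∈ V.comap φ.toMonoidHom, v * v = 1 := by
    intro v hv
    apply φ.injective
    rw [map_mul, map_one]
    exact hV2 (φ v) hv
  have hN' : ∀ n : ↥(Cfsg.Sz F m),
      (∀ e ∈ E.comap φ.toMonoidHom, n * e * n⁻¹ ∈ E.comap φ.toMonoidHom) →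
      ∀ v ∈ V.comap φ.toMonoidHom, n * v * n⁻¹ ∈ V.comap φ.toMonoidHom := by
    intro n hn v hv
    show φ (n * v * n⁻¹) ∈ V
    rw [map_mul, map_mul, map_inv]
    apply hN (φ n) _ (φ v) hv
    intro e he
    have h1 : φ.symm e ∈ E.comap φ.toMonoidHom := by
      show φ (φ.symm e) ∈ E
      rw [MulEquiv.apply_symm_apply]
      exact he
    have h2 : φ (n * φ.symm e * n⁻¹) ∈ E := hn (φ.symm e) h1
    rw [map_mul, map_mul, map_inv, MulEquiv.apply_symm_apply] at h2
    exact h2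
  have key := szNormal_model hm hF _ hinv' hcard' _ hV' hV2' hN'
  exact Subgroup.comap_injective φ.surjective key

end Cfsg.Agent.Lib.Helper64.FrakL
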